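import Cfsg.Agent.H361.IFU.Gen
import Cfsg.Agent.H999.IF.EngB
import Cfsg.Agent.H680.IF.EngA
import Cfsg.Agent.H209.IF.Kill

/-!
# S5719, cell `PSU_3(q)`, `q` even (helper361)
-/

set_option autoImplicit false
set_option linter.unusedSectionVars false

namespace Cfsg.Agent.H361.IFU

open Cfsg Cfsg.Agent.LieRecognition.RankOneAbstract Matrix Subgroup MulAction
open Cfsg.Agent.UThreeGen.MatGroup Cfsg.Agent.H705.PSU Cfsg.Agent.H209.Fxy
open Cfsg.Agent.HKS.EndU (tor tmat tor_val tor_mem act tor_emb ci wel_tor exists_tor tor_mem_center sne tor_conj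
  card_anti comm_of_a)
open Cfsg.Agent.H212.U3.Model (exists_a exists_trace_one card_HG exists_decomp conj_emb exists_pi)
open scoped commutatorElement Pointwise

variable {F : Type} [Field F] [Fintype F] {σ : F →+* F} [hσ : Fact (∀ x, σ (σ x) = x)] {q : ℕ}
  {T : Type} [Group T] {π : SUG σ →* T}

/-- the embedding conjugated by `g` -/
abbrev jg (π : SUG σ →* T) (g : T) : HG σ →* T := (MulAut.conj g).toMonoidHom.comp (jj π)

theorem jg_apply (g : T) (x : HG σ) : jg π g x = g * jj π x * g⁻¹ := rfl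

theorem jg_inj (E : Mod q π) (g : T) {x y : HG σ} (h : jg π g x = jg π g y) : x = y := by
  rw [jg_apply, jg_apply] at h
  exact E.emb_inj (mul_left_cancel (mul_right_cancel h))

theorem jg_mul (g h : T) (x : HG σ) : jg π (g * h) x = g * jg π h x * g⁻¹ := by
  rw [jg_apply, jg_apply]; group

/-- elements of the Borel subgroup normalise the centre -/
theorem borel_conj {b : T} (hb : b ∈ (borel σ).map π) {z : HG σ} (hz : z ∈ ZH σ) :
    ∃ z' ∈ ZH σ, b * jj π z * b⁻¹ = jj π z' := by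
  obtain ⟨h, hh, rfl⟩ := hb
  obtain ⟨y, h1, h2, -⟩ := conj_emb hh z
  refine ⟨y, ?_, ?_⟩
  · rw [mem_ZH, h2, show z.a = 0 from hz, mul_zero]
  · show π h * π (emb σ z) * (π h)⁻¹ = π (emb σ y)
    rw [← map_mul, ← map_inv, ← map_mul, h1]

theorem jg_of_eq {g g' : T} (h : (g : T ⧸ (borel σ).map π) = (g' : T ⧸ (borel σ).map π)) {z : HG σ}
    (hz : z ∈ ZH σ) : ∃ z' ∈ ZH σ, jg π g z = jg π g' z' := by
  have h1 : g'⁻¹ * g ∈ (borel σ).map π := QuotientGroup.eq.1 h.symm
  obtain ⟨z', hz', h2⟩ := borel_conj h1 hz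
  refine ⟨z', hz', ?_⟩
  rw [jg_apply, jg_apply, ← h2]
  group

theorem card_Z_ne (hF : Fintype.card F = q ^ 2) (hs : ∀ x, σ x = x ^ q) :
    Nat.card {z : HG σ // z ∈ ZH σ ∧ z ≠ 1} = q - 1 := by
  classical
  have hfin : Finite (HG σ) := by
    apply Nat.finite_of_card_ne_zero
    rw [card_HG hF hs]
    have := LieClassical.HermBasic.two_le hF
    positivity
  have h1 : Nat.card {z : HG σ // z ∈ ZH σ ∧ z ≠ 1} = ({z : HG σ | z ∈ ZH σ ∧ z ≠ 1}).ncard := rfl
  have h2 : {z : HG σ | z ∈ ZH σ ∧ z ≠ 1} = (ZH σ : Set (HG σ)) \ {1} := by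
    ext z
    simp
  rw [h1, h2, Set.ncard_sdiff_singleton_of_mem (one_mem (ZH σ))]
  have h3 : (ZH σ : Set (HG σ)).ncard = q := card_ZH hF hs
  rw [h3]

/-- all the nontrivial central unipotent elements -/
def allZ (π : SUG σ →* T) : Set T := {x | ∃ k : T, ∃ z ∈ ZH σ, z ≠ 1 ∧ x = jg π k z}

theorem ncard_allZ [Finite T] (E : Mod q π) : (allZ π).ncard ≤ (q ^ 3 + 1) * (q - 1) := by
  classical
  have hfin : Finite (HG σ) := by
    apply Nat.finite_of_card_ne_zero
    rw [card_HG E.card E.pow]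
    have := LieClassical.HermBasic.two_le E.card
    positivity
  let f : (T ⧸ (borel σ).map π) × {z : HG σ // z ∈ ZH σ ∧ z ≠ 1} → T := fun p => jg π p.1.out p.2.1
  have h1 : allZ π ⊆ Set.range f := by
    rintro x ⟨k, z, hz, hz1, rfl⟩
    have h2 : ((k : T) : T ⧸ (borel σ).map π) = ((((k : T) : T ⧸ (borel σ).map π).out : T) : T ⧸ (borel σ).map π) :=
      (QuotientGroup.out_eq' _).symm
    obtain ⟨z', hz', h3⟩ := jg_of_eq h2 hz
    refine ⟨(((k : T) : T ⧸ (borel σ).map π), ⟨z', hz', ?_⟩), h3.symm⟩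
    rintro rfl
    apply hz1
    rw [map_one] at h3
    exact jg_inj E k (h3.trans (map_one _).symm)
  have h4 : (Set.range f).ncard ≤ Nat.card ((T ⧸ (borel σ).map π) × {z : HG σ // z ∈ ZH σ ∧ z ≠ 1}) := by
    rw [← Set.image_univ]
    exact (Set.ncard_image_le (Set.toFinite _)).trans (by rw [Set.ncard_univ])
  refine (Set.ncard_le_ncard h1 (Set.toFinite _)).trans (h4.trans ?_)
  rw [Nat.card_prod, card_Z_ne E.card E.pow]
  have h5 : Nat.card (T ⧸ (borel σ).map π) = q ^ 3 + 1 := by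
    have := E.data.index
    rw [E.card_unip] at this
    exact this
  rw [h5]

theorem index_centralizer_le [Finite T] (E : Mod q π) {k : T} {z : HG σ} (hz : z ∈ ZH σ) (hz1 : z ≠ 1) :
    (centralizer ({jg π k z} : Set T)).index ≤ (q ^ 3 + 1) * (q - 1) := by
  refine le_trans ?_ (ncard_allZ E)
  set t := jg π k z with ht
  let f : (T ⧸ centralizer ({t} : Set T)) → T := Quotient.lift (fun g : T => g * t * g⁻¹) (by
    intro a b hab
    have h1 : a⁻¹ * b ∈ centralizer ({t} : Set T) := QuotientGroup.leftRel_apply.1 hab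
    have h2 : t * (a⁻¹ * b) = (a⁻¹ * b) * t := mem_centralizer_iff.1 h1 t rfl
    show a * t * a⁻¹ = b * t * b⁻¹
    calc a * t * a⁻¹ = a * (t * (a⁻¹ * b)) * b⁻¹ := by group
      _ = a * ((a⁻¹ * b) * t) * b⁻¹ := by rw [h2]
      _ = _ := by group)
  have hf : Function.Injective f := by
    intro x y hxy
    induction x using QuotientGroup.induction_on with
    | H a =>
      induction y using QuotientGroup.induction_on with
      | H b =>
        have h1 : a * t * a⁻¹ = b * t * b⁻¹ := hxy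
        rw [QuotientGroup.eq, mem_centralizer_iff]
        rintro _ rfl
        calc t * (a⁻¹ * b) = a⁻¹ * (a * t * a⁻¹) * b := by group
          _ = a⁻¹ * (b * t * b⁻¹) * b := by rw [h1]
          _ = _ := by group
  have h1 : Set.range f ⊆ allZ π := by
    rintro _ ⟨x, rfl⟩
    induction x using QuotientGroup.induction_on with
    | H a =>
      refine ⟨a * k, z, hz, hz1, ?_⟩
      rw [jg_mul]
      rfl
  calc (centralizer ({t} : Set T)).index = Nat.card (T ⧸ centralizer ({t} : Set T)) := rfl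
    _ = (Set.range f).ncard := by rw [← Set.image_univ, Set.ncard_image_of_injective _ hf, Set.ncard_univ]
    _ ≤ _ := Set.ncard_le_ncard h1 (Set.toFinite _)

theorem arith (hq : 2 ≤ q) : (q ^ 3 + 1) * (q - 1) < q ^ 4 := by
  obtain ⟨r, rfl⟩ : ∃ r, q = r + 1 := ⟨q - 1, by omega⟩
  rw [Nat.add_sub_cancel]
  have h1 : r < (r + 1) ^ 3 := by
    calc r < r + 1 := by omega
      _ ≤ (r + 1) ^ 3 := Nat.le_self_pow (by norm_num) _
  calc ((r + 1) ^ 3 + 1) * r = (r + 1) ^ 3 * r + r := by ring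
    _ < (r + 1) ^ 3 * r + (r + 1) ^ 3 := by omega
    _ = _ := by ring

theorem sq_one (h2 : (2 : F) = 0) {z : HG σ} : z * z = 1 ↔ z.a = 0 := by
  constructor
  · intro h
    have h1 := congrArg HG.b h
    rw [mul_b, one_b] at h1
    have h3 : z.a * σ z.a = 0 := by linear_combination h1 - z.b * h2
    rcases mul_eq_zero.1 h3 with h4 | h4
    · exact h4
    · exact (map_eq_zero σ).1 h4
  · intro h
    have h3 := z.h
    refine ext_ab ?_ ?_
    · rw [mul_a, h, add_zero, one_a]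
    · rw [mul_b, h, zero_mul, add_zero, one_b]
      linear_combination z.b * h2

/-- every involution is a conjugate of a central unipotent element -/
theorem exists_jg [Finite T] (h2 : (2 : F) = 0) (E : Mod q π) (hq : 1 < q) {t : T} (ht : orderOf t = 2) :
    ∃ g : T, ∃ z ∈ ZH σ, z ≠ 1 ∧ t = jg π g z := by
  have hp : Fact (Nat.Prime 2) := ⟨Nat.prime_two⟩
  have : CharP F 2 := CharTwo.of_one_ne_zero_of_two_eq_zero one_ne_zero h2
  obtain ⟨n, hn, hqn⟩ := E.exists_pow (r := 2) hq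
  obtain ⟨h3, h4, -, -⟩ := H990.TIPsu.facts (p := 2) (n := n) E.surj E.ker E.card E.pow hn hqn
  have hR : IsPGroup 2 (H990.TIPsu.R0 π) := by
    apply IsPGroup.of_card (n := n * 3)
    rw [h3, hqn, pow_mul]
  let S : Sylow 2 T := hR.toSylow h4
  have htP : IsPGroup 2 (zpowers t) := by
    apply IsPGroup.of_card (n := 1)
    rw [Nat.card_zpowers, ht, pow_one]
  obtain ⟨P, hP⟩ := htP.exists_le_sylow
  obtain ⟨g, hg⟩ := exists_smul_eq T S P
  have h5 : t ∈ (g • S : Sylow 2 T) := by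
    rw [hg]
    exact hP (mem_zpowers t)
  have h6 : g⁻¹ * t * g ∈ H990.TIPsu.R0 π := by
    have h7 : t ∈ (MulAut.conj g) • (S : Subgroup T) := h5
    rw [Subgroup.mem_pointwise_smul_iff_inv_smul_mem] at h7
    have h8 : (MulAut.conj g)⁻¹ • t = g⁻¹ * t * g := by
      rw [← map_inv, MulAut.smul_def, MulAut.conj_apply, inv_inv]
    rw [h8] at h7
    exact h7
  obtain ⟨z, hz⟩ := h6
  have hz' : jj π z = g⁻¹ * t * g := hz
  have h9 : t = jg π g z := by
    rw [jg_apply, hz']
    group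
  have h10 : t * t = 1 := by
    have := pow_orderOf_eq_one t
    rwa [ht, pow_two] at this
  have h11 : z * z = 1 := by
    apply jg_inj E g
    rw [map_mul, ← h9, h10, map_one]
  refine ⟨g, z, (sq_one h2).1 h11, ?_, h9⟩
  rintro rfl
  rw [map_one] at h9
  rw [h9, orderOf_one] at ht
  norm_num at ht

theorem orderOf_jg (h2 : (2 : F) = 0) (E : Mod q π) {g : T} {z : HG σ} (hz : z ∈ ZH σ) (hz1 : z ≠ 1) :
    orderOf (jg π g z) = 2 := by
  apply orderOf_eq_prime
  · rw [pow_two, ← map_mul, (sq_one h2).2 hz, map_one]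
  · intro h
    exact hz1 (jg_inj E g (h.trans (map_one _).symm))

section Main

variable [Finite T] [IsSimpleGroup T] {A : Subgroup T} {Γ : Subgroup (MulAut T)}

theorem exists_z0 (hF : Fintype.card F = q ^ 2) (hs : ∀ x, σ x = x ^ q) : ∃ z ∈ ZH σ, z ≠ 1 := by
  obtain ⟨δ, h1, h2⟩ := exists_delta (σ := σ) hF hs
  refine ⟨ez σ δ h1, rfl, ?_⟩
  intro h
  exact h2 (congrArg HG.b h)

theorem nonab (E : Mod q π) : ∃ a b : T, a * b ≠ b * a := by
  obtain ⟨u, hu⟩ := E.exists_ne
  obtain ⟨z, hz, hz1⟩ := exists_z0 (σ := σ) E.card E.pow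
  obtain ⟨v, hv⟩ := exists_comm E.card E.pow (σ := σ) (u := u) hu hz
  refine ⟨jj π u, jj π v, ?_⟩
  intro h
  rw [← map_mul, ← map_mul] at h
  have h1 : u * v = v * u := E.emb_inj h
  apply hz1
  rw [← hv, commutatorElement_def, h1]
  group

theorem small_index (h2 : (2 : F) = 0) (E : Mod q π) (hq : 2 ≤ q) (h : IF A Γ) {g : T} {z : HG σ} (hz : z ∈ ZH σ)
    (hz1 : z ≠ 1) (hA : jg π g z ∈ A) : (A.comap (jg π g)).index ^ 5 < q ^ 4 := by
  have ho := orderOf_jg h2 E (g := g) hz hz1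
  obtain ⟨-, -, -, -, h3⟩ := H999.IFB.IF.E2' h (nonab E) hA ho
  have h4 : (jg π g).range ≤ centralizer ({jg π g z} : Set T) := by
    rintro _ ⟨x, rfl⟩
    rw [mem_centralizer_iff]
    rintro _ rfl
    rw [← map_mul, ← map_mul, comm_of_a hz x]
  have h5 := (h3 _ h4).1
  rw [Subgroup.index_comap]
  exact h5.trans_le ((index_centralizer_le E hz hz1).trans (arith hq).le)

theorem Zg_le (h2 : (2 : F) = 0) (E : Mod q π) (hq : 2 ≤ q) (h : IF A Γ) {g : T} {z : HG σ} (hz : z ∈ ZH σ)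
    (hz1 : z ≠ 1) (hA : jg π g z ∈ A) {z' : HG σ} (hz' : z' ∈ ZH σ) : jg π g z' ∈ A :=
  Z_le E.card E.pow hq (small_index h2 E hq h hz hz1 hA) hz'

theorem index_map_conj (B : Subgroup T) (g : T) : (B.map (MulAut.conj g).toMonoidHom).index = B.index :=
  Subgroup.index_map_equiv B (MulAut.conj g)

end Main

theorem same_point (h2 : (2 : F) = 0) {π : SUG σ →* PSU 3 F q} [Finite (PSU 3 F q)] [IsSimpleGroup (PSU 3 F q)]
    (E : Mod q π) (hq : 3 ≤ q) {A : Subgroup (PSU 3 F q)} {Γ : Subgroup (MulAut (PSU 3 F q))} (h : IF A Γ)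
    {g g' : PSU 3 F q} {z z' : HG σ} (hz : z ∈ ZH σ) (hz1 : z ≠ 1) (hA : jg π g z ∈ A)
    (hz' : z' ∈ ZH σ) (hz1' : z' ≠ 1) (hA' : jg π g' z' ∈ A) :
    (g : PSU 3 F q ⧸ (borel σ).map π) = (g' : PSU 3 F q ⧸ (borel σ).map π) := by
  by_contra hne
  obtain ⟨z0, hz0, hz01⟩ := exists_z0 (σ := σ) E.card E.pow
  have h3 := E.data.two_pretransitive
  rw [MulAction.is_two_pretransitive_iff] at h3
  have hwne : (QuotientGroup.mk 1 : PSU 3 F q ⧸ (borel σ).map π) ≠ QuotientGroup.mk (π (wel σ)) := by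
    intro h4
    apply E.data.w_not_mem
    have := QuotientGroup.eq.1 h4
    simpa using this
  obtain ⟨k, hk1, hk2⟩ := h3 hwne hne
  have hk1' : (k : PSU 3 F q ⧸ (borel σ).map π) = (g : PSU 3 F q ⧸ (borel σ).map π) := by
    rw [← hk1]
    show _ = (QuotientGroup.mk (k * 1) : PSU 3 F q ⧸ (borel σ).map π)
    rw [mul_one]
  have hk2' : ((k * π (wel σ) : PSU 3 F q) : PSU 3 F q ⧸ (borel σ).map π) = (g' : PSU 3 F q ⧸ (borel σ).map π) := hk2
  have hkZ : ∀ z ∈ ZH σ, jg π k z ∈ A := by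
    intro y hy
    obtain ⟨y', hy', h5⟩ := jg_of_eq hk1' hy
    rw [h5]
    exact Zg_le h2 E (by omega) h hz hz1 hA hy'
  have hkwZ : ∀ z ∈ ZH σ, jg π (k * π (wel σ)) z ∈ A := by
    intro y hy
    obtain ⟨y', hy', h5⟩ := jg_of_eq hk2' hy
    rw [h5]
    exact Zg_le h2 E (by omega) h hz' hz1' hA' hy'
  have hw2 : π (wel σ) * π (wel σ) = 1 := by rw [← map_mul, wel_mul_wel, map_one]
  have hwi : (π (wel σ))⁻¹ = π (wel σ) := inv_eq_of_mul_eq_one_right hw2
  have htop : A.comap (MulAut.conj k).toMonoidHom = ⊤ := by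
    refine eq_top hq E (fun y hy => hkZ y hy) (fun y hy => ?_) ?_ ?_
    · have h5 := hkwZ y hy
      rw [jg_mul, jg_apply, hwi] at h5
      exact h5
    · rw [comap_comap]
      exact small_index h2 E (by omega) h hz0 hz01 (hkZ z0 hz0)
    · rw [comap_comap]
      have h6 : (MulAut.conj k).toMonoidHom.comp ((MulAut.conj (π (wel σ))).toMonoidHom.comp (jj π)) =
          jg π (k * π (wel σ)) := by
        ext1 x
        rw [jg_mul]
        rfl
      rw [h6]
      exact small_index h2 E (by omega) h hz0 hz01 (hkwZ z0 hz0)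
  apply h.ne_top
  rw [eq_top_iff]
  intro x _
  have h7 : k⁻¹ * x * k ∈ A.comap (MulAut.conj k).toMonoidHom := by rw [htop]; exact mem_top _
  have h8 : k * (k⁻¹ * x * k) * k⁻¹ ∈ A := h7
  have h9 : k * (k⁻¹ * x * k) * k⁻¹ = x := by group
  rwa [h9] at h8

/-- a fixed point free element -/
theorem eq_one_of_fix (E : Mod q π) {x : T} (hx : x ∉ (borel σ).map π) {z : HG σ}
    (h : x⁻¹ * jj π z * x ∈ (borel σ).map π) : z = 1 := by
  obtain ⟨s, hs, h1⟩ := E.data.bruhat x hx
  obtain ⟨_, ⟨u, rfl⟩, rfl⟩ := hs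
  set b := (π (emb σ u) * π (wel σ))⁻¹ * x with hb
  have hx' : x = π (emb σ u) * π (wel σ) * b := by rw [hb]; group
  have h2 : (π (wel σ))⁻¹ * ((π (emb σ u))⁻¹ * jj π z * π (emb σ u)) * π (wel σ) ∈ (borel σ).map π := by
    have h3 := mul_mem (mul_mem h1 h) (inv_mem h1)
    have h4 : b * (x⁻¹ * jj π z * x) * b⁻¹ =
        (π (wel σ))⁻¹ * ((π (emb σ u))⁻¹ * jj π z * π (emb σ u)) * π (wel σ) := by
      rw [hx']; group
    rwa [h4] at h3
  have h5 := E.data.inter _ ⟨emb σ (u⁻¹ * z * u), ⟨_, rfl⟩, by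
    simp only [map_mul, map_inv]
    rfl⟩ h2
  have h6 : jj π z = 1 := by
    calc jj π z = π (emb σ u) * ((π (emb σ u))⁻¹ * jj π z * π (emb σ u)) * (π (emb σ u))⁻¹ := by group
      _ = 1 := by rw [h5]; group
  exact E.emb_inj (h6.trans (map_one (jj π)).symm)

theorem card_fix_sq {V : Type*} [Group V] [Finite V] (h2 : ∀ v : V, v * v = 1) (τ : V →* V)
    (hτ : ∀ v, τ (τ v) = v) : Nat.card V ≤ Nat.card {v : V // τ v = v} ^ 2 := by
  have hc : ∀ a b : V, a * b = b * a := by
    intro a b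
    have h3 := h2 (a * b)
    have hi : ∀ v : V, v⁻¹ = v := fun v => inv_eq_of_mul_eq_one_right (h2 v)
    have h4 : (a * b)⁻¹ = a * b := hi _
    rw [_root_.mul_inv_rev, hi, hi] at h4
    exact h4.symm
  let f : V →* V :=
    { toFun := fun v => v * τ v
      map_one' := by rw [map_one, one_mul]
      map_mul' := fun a b => by
        rw [map_mul]
        calc a * b * (τ a * τ b) = a * (b * τ a) * τ b := by group
          _ = a * (τ a * b) * τ b := by rw [hc b]
          _ = _ := by group }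
  have hker : Nat.card f.ker = Nat.card {v : V // τ v = v} := by
    refine Nat.card_congr (Equiv.subtypeEquivRight fun v => ?_)
    rw [MonoidHom.mem_ker]
    show v * τ v = 1 ↔ τ v = v
    constructor
    · intro h
      have h3 := h2 v
      rw [← h3] at h
      exact mul_left_cancel h
    · intro h
      rw [h, h2]
  have hrange : Nat.card f.range ≤ Nat.card {v : V // τ v = v} := by
    refine Nat.card_le_card_of_injective (fun x : f.range => (⟨x.1, ?_⟩ : {v : V // τ v = v})) ?_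
    · obtain ⟨_, v, rfl⟩ := x
      show τ (v * τ v) = v * τ v
      rw [map_mul, hτ, hc]
    · intro x y hxy
      exact Subtype.ext (congrArg (fun w : {v : V // τ v = v} => w.1) hxy)
  have h3 : Nat.card V = Nat.card f.ker * Nat.card f.range := by
    rw [← f.ker.card_mul_index, Subgroup.index_ker]
  rw [h3, hker, pow_two]
  exact Nat.mul_le_mul_left _ hrange

theorem kill (h2 : (2 : F) = 0) {π : SUG σ →* PSU 3 F q} [Finite (PSU 3 F q)] [IsSimpleGroup (PSU 3 F q)]
    (E : Mod q π) (hq : 3 ≤ q) : KillE (PSU 3 F q) := by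
  classical
  intro A Γ h ⟨t, htA, ht⟩
  have hfin : Finite (HG σ) := by
    apply Nat.finite_of_card_ne_zero
    rw [card_HG E.card E.pow]
    positivity
  obtain ⟨g, z1, hz1, hz1', rfl⟩ := exists_jg h2 E (by omega) ht
  set B0 := (borel σ).map π with hB0
  -- all involutions of `A`
  have hinvol : ∀ s ∈ A, orderOf s = 2 → ∃ z ∈ ZH σ, z ≠ 1 ∧ s = jg π g z := by
    intro s hs ho
    obtain ⟨k, z, hz, hzn, rfl⟩ := exists_jg h2 E (by omega) ho
    have h3 := same_point h2 E hq h hz hzn hs hz1 hz1' htA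
    obtain ⟨z', hz', h4⟩ := jg_of_eq h3 hz
    refine ⟨z', hz', ?_, h4⟩
    rintro rfl
    apply hzn
    rw [map_one] at h4
    exact jg_inj E k (h4.trans (map_one _).symm)
  have hZA : ∀ z ∈ ZH σ, jg π g z ∈ A := fun z hz => Zg_le h2 E (by omega) h hz1 hz1' htA hz
  let V : Subgroup (PSU 3 F q) := (ZH σ).map (jg π g)
  have hVA : V ≤ A := by
    rintro _ ⟨z, hz, rfl⟩
    exact hZA z hz
  have hVinv : ∀ τ ∈ Γ, ∀ v ∈ V, τ v ∈ V := by
    rintro τ hτ _ ⟨z, hz, rfl⟩
    by_cases hz0 : z = 1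
    · rw [hz0, map_one, map_one]
      exact one_mem _
    · obtain ⟨z', hz', -, h4⟩ := hinvol (τ (jg π g z)) ((h.inv τ hτ _).2 (hZA z hz)) (by
        rw [MulEquiv.orderOf_eq, orderOf_jg h2 E hz hz0])
      rw [h4]
      exact ⟨z', hz', rfl⟩
  have hV1 : V ≠ ⊥ := by
    intro hV
    have h3 : jg π g z1 ∈ V := ⟨z1, hz1, rfl⟩
    rw [hV, mem_bot] at h3
    exact hz1' (jg_inj E g (h3.trans (map_one _).symm))
  -- `A` is a Borel subgroup
  have hAmem : ∀ x : PSU 3 F q, x ∈ A ↔ g⁻¹ * x * g ∈ B0 := by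
    intro x
    constructor
    · intro hx
      have h3 : jg π (x * g) z1 ∈ A := by
        rw [jg_mul]
        exact A.mul_mem (A.mul_mem hx htA) (A.inv_mem hx)
      have h4 := same_point h2 E hq h hz1 hz1' h3 hz1 hz1' htA
      have h5 := QuotientGroup.eq.1 h4.symm
      rwa [← mul_assoc] at h5
    · intro hx
      refine H680.Fxy.IF.norm h hVA hVinv hV1 ?_
      rintro _ ⟨z, hz, rfl⟩
      obtain ⟨z', hz', h4⟩ := borel_conj hx hz
      refine ⟨z', hz', ?_⟩
      rw [jg_apply, ← h4, jg_apply]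
      group
  have hAeq : A = B0.map (MulAut.conj g).toMonoidHom := by
    ext x
    rw [hAmem]
    constructor
    · intro hx
      exact ⟨_, hx, by show g * (g⁻¹ * x * g) * g⁻¹ = x; group⟩
    · rintro ⟨y, hy, rfl⟩
      show g⁻¹ * (g * y * g⁻¹) * g ∈ B0
      have h3 : g⁻¹ * (g * y * g⁻¹) * g = y := by group
      rw [h3]
      exact hy
  have hidx : A.index = q ^ 3 + 1 := by
    rw [hAeq, index_map_conj, E.data.index, E.card_unip]
  -- the involution with fixed points
  obtain ⟨τ, hτ, hτ2, hfx⟩ := h.ex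
  have hττ : ∀ x, τ (τ x) = x := by
    intro x
    have h3 : τ ^ 2 = 1 := by rw [← hτ2]; exact pow_orderOf_eq_one τ
    rw [pow_two] at h3
    exact congrArg (fun e : MulAut (PSU 3 F q) => e x) h3
  let τV : V →* V :=
    { toFun := fun v => ⟨τ v, hVinv τ hτ v v.2⟩
      map_one' := Subtype.ext (map_one τ)
      map_mul' := fun a b => Subtype.ext (map_mul τ _ _) }
  have hcV : Nat.card V = q := by
    have h3 := card_ZH (σ := σ) E.card E.pow
    have h4 : Nat.card (ZH σ) = Nat.card V :=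
      Nat.card_congr ((ZH σ).equivMapOfInjective (jg π g) (fun x y hxy => jg_inj E g hxy)).toEquiv
    exact h4.symm.trans h3
  have hc := card_fix_sq (V := V) (fun v => by
    obtain ⟨_, z, hz, rfl⟩ := v
    apply Subtype.ext
    show jg π g z * jg π g z = 1
    rw [← map_mul, (sq_one h2).2 hz, map_one]) τV (fun v => Subtype.ext (hττ v))
  rw [hcV] at hc
  set c := Nat.card {v : V // τV v = v} with hcdef
  -- another fixed point
  obtain ⟨p, hp, hp1⟩ : ∃ p ∈ fixSet A τ, p ≠ ((1 : PSU 3 F q) : PSU 3 F q ⧸ A) := by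
    by_contra hcon
    push Not at hcon
    have h3 : fixSet A τ ⊆ {((1 : PSU 3 F q) : PSU 3 F q ⧸ A)} := fun p hp => hcon p hp
    have h4 := Set.ncard_le_ncard h3 (Set.toFinite _)
    rw [Set.ncard_singleton] at h4
    have h5 : 3 ≤ (fixSet A τ).ncard := hfx
    omega
  obtain ⟨y, rfl, hy⟩ := hp
  have hyA : y ∉ A := by
    intro hyA
    apply hp1
    rw [QuotientGroup.eq, mul_one]
    exact A.inv_mem hyA
  have hfree : ∀ v ∈ V, y⁻¹ * v * y ∈ A → v = 1 := by
    rintro _ ⟨z, hz, rfl⟩ hv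
    rw [hAmem] at hv
    have h3 : g⁻¹ * y * g ∉ B0 := fun h4 => hyA ((hAmem y).2 h4)
    have h4 : z = 1 := by
      apply eq_one_of_fix E h3
      have h5 : (g⁻¹ * y * g)⁻¹ * jj π z * (g⁻¹ * y * g) = g⁻¹ * (y⁻¹ * jg π g z * y) * g := by
        rw [jg_apply]; group
      rw [h5]
      exact hv
    rw [h4, map_one]
  have h1c : c + 1 ≤ fx A τ := by
    let f : Option {v : V // τV v = v} → fixSet A τ := fun o => match o with
      | none => ⟨((1 : PSU 3 F q) : PSU 3 F q ⧸ A), 1, rfl, by rw [map_one, inv_one, mul_one]; exact A.one_mem⟩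
      | some v => ⟨(((v.1 : PSU 3 F q) * y : PSU 3 F q) : PSU 3 F q ⧸ A), _, rfl, by
          have h3 : τ ((v.1 : PSU 3 F q)) = (v.1 : PSU 3 F q) := congrArg (fun w : V => (w : PSU 3 F q)) v.2
          rw [map_mul, h3]
          have h4 : ((v.1 : PSU 3 F q) * y)⁻¹ * ((v.1 : PSU 3 F q) * τ y) = y⁻¹ * τ y := by group
          rw [h4]
          exact hy⟩
    have hf : Function.Injective f := by
      intro a b hab
      match a, b, hab with
      | none, none, _ => rfl
      | none, some v, hab =>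
        exfalso
        have h3 : ((1 : PSU 3 F q) : PSU 3 F q ⧸ A) = (((v.1 : PSU 3 F q) * y : PSU 3 F q) : PSU 3 F q ⧸ A) :=
          congrArg Subtype.val hab
        have h4 := QuotientGroup.eq.1 h3
        rw [inv_one, one_mul] at h4
        have h5 := A.mul_mem (A.inv_mem (hVA v.1.2)) h4
        rw [inv_mul_cancel_left] at h5
        exact hyA h5
      | some v, none, hab =>
        exfalso
        have h3 : (((v.1 : PSU 3 F q) * y : PSU 3 F q) : PSU 3 F q ⧸ A) = ((1 : PSU 3 F q) : PSU 3 F q ⧸ A) :=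
          congrArg Subtype.val hab
        have h4 := QuotientGroup.eq.1 h3.symm
        rw [inv_one, one_mul] at h4
        have h5 := A.mul_mem (A.inv_mem (hVA v.1.2)) h4
        rw [inv_mul_cancel_left] at h5
        exact hyA h5
      | some v, some w, hab =>
        have h3 : (((v.1 : PSU 3 F q) * y : PSU 3 F q) : PSU 3 F q ⧸ A) =
            (((w.1 : PSU 3 F q) * y : PSU 3 F q) : PSU 3 F q ⧸ A) := congrArg Subtype.val hab
        have h4 := QuotientGroup.eq.1 h3
        have h5 : ((v.1 : PSU 3 F q) * y)⁻¹ * ((w.1 : PSU 3 F q) * y) =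
            y⁻¹ * ((v.1 : PSU 3 F q)⁻¹ * (w.1 : PSU 3 F q)) * y := by group
        rw [h5] at h4
        have h6 := hfree _ (V.mul_mem (V.inv_mem v.1.2) w.1.2) h4
        have h7 : (v.1 : PSU 3 F q) = (w.1 : PSU 3 F q) := inv_mul_eq_one.1 h6
        exact congrArg some (Subtype.ext (Subtype.ext h7))
    have h3 := Nat.card_le_card_of_injective f hf
    rw [Finite.card_option] at h3
    exact h3
  have h3 := h.small τ hτ hτ2
  rw [hidx] at h3
  have h4 : q ^ 3 + 1 ≤ (c + 1) ^ 6 := by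
    calc q ^ 3 + 1 ≤ (c ^ 2) ^ 3 + 1 := by
          have := Nat.pow_le_pow_left hc 3
          omega
      _ = c ^ 6 + 1 := by ring
      _ ≤ (c + 1) ^ 6 := by
          have : c ^ 6 + 1 + (6 * c ^ 5 + 15 * c ^ 4 + 20 * c ^ 3 + 15 * c ^ 2 + 6 * c) = (c + 1) ^ 6 := by ring
          omega
  have h5 := Nat.pow_le_pow_left h1c 6
  omega

/-- **The cell `PSU_3(q)`, `q` even.** -/
theorem even (F : Type) [Field F] [Fintype F] (q : ℕ) (hF : Fintype.card F = q ^ 2) (hq2 : q ≠ 2) (he : Even q)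
    (hs : IsSimpleGroup (PSU 3 F q)) : KillE (PSU 3 F q) := by
  have hq : 2 ≤ q := LieClassical.HermBasic.two_le hF
  let σ : F →+* F := (LieClassical.HermBasic.conj hF : F →+* F)
  have hσ : ∀ x, σ x = x ^ q := LieClassical.HermBasic.conj_apply hF
  have : Fact (∀ x, σ (σ x) = x) := ⟨fun x => by
    rw [hσ, hσ, ← pow_mul, ← pow_two, ← hF, FiniteField.pow_card]⟩
  have h2 : (2 : F) = 0 := by
    have h3 : ((Fintype.card F : ℕ) : F) = 0 := FiniteField.cast_card_eq_zero F
    rw [hF, Nat.cast_pow, pow_eq_zero_iff two_ne_zero] at h3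
    obtain ⟨p, hp⟩ := CharP.exists F
    have hpp : p.Prime := CharP.char_is_prime F p
    obtain ⟨n, -, hn⟩ := FiniteField.card F p
    have h4 : 2 ∣ p ^ (n : ℕ) := by
      rw [← hn, hF]
      exact (even_iff_two_dvd.1 he).trans (dvd_pow_self q two_ne_zero)
    have h5 : 2 = p := (Nat.prime_dvd_prime_iff_eq Nat.prime_two hpp).1 (Nat.prime_two.dvd_of_dvd_pow h4)
    have h6 : ((2 : ℕ) : F) = 0 := by
      rw [h5]
      exact CharP.cast_eq_zero F p
    exact_mod_cast h6
  obtain ⟨π, hπ, hker⟩ := exists_pi (σ := σ) (by omega) hσ (by rw [Nat.card_eq_fintype_card, hF])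
  have : Finite (PSU 3 F q) := Quotient.finite _
  exact kill h2 ⟨hF, hσ, hπ, hker⟩ (by omega)

end Cfsg.Agent.H361.IFU
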