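import Cfsg.Agent.H361.IFU.Heis

/-!
# Subgroups of `PSU_3(q)` containing two opposite centres (helper361, cell PSU.three of S5719)
-/

set_option autoImplicit false
set_option linter.unusedSectionVars false

namespace Cfsg.Agent.H361.IFU

open Cfsg Cfsg.Agent.LieRecognition.RankOneAbstract Matrix Subgroup
open Cfsg.Agent.UThreeGen.MatGroup Cfsg.Agent.H705.PSU
open Cfsg.Agent.HKS.EndU (tor tmat tor_val tor_mem act tor_emb ci wel_tor exists_tor tor_mem_center sne tor_conj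
  card_anti comm_of_a)
open Cfsg.Agent.H212.U3.Model (exists_a exists_trace_one card_HG)
open scoped commutatorElement

variable {F : Type} [Field F] {σ : F →+* F} [hσ : Fact (∀ x, σ (σ x) = x)]

/-- central elements -/
def ez (σ : F →+* F) [hσ : Fact (∀ x, σ (σ x) = x)] (b : F) (hb : b + σ b = 0) : HG σ :=
  ⟨0, b, by rw [zero_mul]; exact hb⟩

/-- the Weyl elements of the `SL_2` -/
def nn (b : F) (hb : b + σ b = 0) (hb' : -b⁻¹ + σ (-b⁻¹) = 0) : SUG σ :=
  emb σ (ez σ b hb) * (wel σ * emb σ (ez σ (-b⁻¹) hb') * wel σ) * emb σ (ez σ b hb)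

theorem nn_val {b : F} (hb0 : b ≠ 0) (hb : b + σ b = 0) (hb' : -b⁻¹ + σ (-b⁻¹) = 0) :
    (nn b hb hb').1.1 = !![0, 0, b; 0, 1, 0; -b⁻¹, 0, 0] := by
  rw [nn]
  simp only [coe_mul_SUG, emb_val, wel_val]
  ext i j
  fin_cases i <;> fin_cases j <;>
    simp [umat, Wm, ez, Matrix.mul_apply, Fin.sum_univ_three, hb0]

theorem anti_inv {b : F} (hb : b + σ b = 0) : -b⁻¹ + σ (-b⁻¹) = 0 := by
  have h1 : σ b = -b := by linear_combination hb
  rw [map_neg, map_inv₀, h1, inv_neg]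
  ring

theorem tor_mem_of {K : Subgroup (SUG σ)} (hZ : ∀ z ∈ ZH σ, emb σ z ∈ K)
    (hZw : ∀ z ∈ ZH σ, wel σ * emb σ z * wel σ ∈ K) {δ : F} (hδ : δ + σ δ = 0) (hδ0 : δ ≠ 0) {l : Fˣ}
    (hl : σ (l : F) = l) : tor σ l ∈ K := by
  have hlδ : (l : F) * δ + σ ((l : F) * δ) = 0 := by
    rw [map_mul, hl]
    linear_combination (l : F) * hδ
  have hn : ∀ (b : F) (hb : b + σ b = 0) (hb' : -b⁻¹ + σ (-b⁻¹) = 0), nn b hb hb' ∈ K := fun b hb hb' =>
    K.mul_mem (K.mul_mem (hZ _ rfl) (hZw _ rfl)) (hZ _ rfl)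
  have h1 : tor σ l * nn δ hδ (anti_inv hδ) = nn ((l : F) * δ) hlδ (anti_inv hlδ) := by
    apply Subtype.ext
    apply Subtype.ext
    rw [coe_mul_SUG, nn_val hδ0, nn_val (mul_ne_zero l.ne_zero hδ0), tor_val]
    ext i j
    fin_cases i <;> fin_cases j <;> simp [tmat, Matrix.mul_apply, Fin.sum_univ_three, hl, mul_comm]
  have h2 : tor σ l = nn ((l : F) * δ) hlδ (anti_inv hlδ) * (nn δ hδ (anti_inv hδ))⁻¹ := by
    rw [← h1, mul_inv_cancel_right]
  rw [h2]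
  exact K.mul_mem (hn _ _ _) (K.inv_mem (hn _ _ _))

section fin

variable [Fintype F] {q : ℕ} {T : Type} [Group T] {π : SUG σ →* T}

/-- the embedding of the unipotent group in the quotient -/
abbrev jj (π : SUG σ →* T) : HG σ →* T := π.comp (emb σ)

theorem range_jj (π : SUG σ →* T) : (jj π).range = (emb σ).range.map π := MonoidHom.range_comp _ _

theorem exists_delta (hF : Fintype.card F = q ^ 2) (hs : ∀ x, σ x = x ^ q) : ∃ δ : F, δ + σ δ = 0 ∧ δ ≠ 0 := by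
  obtain ⟨δ, hδ, hδ'⟩ := LieClassical.HermBasic.exists_trace_zero_ne hF
  rw [← hs] at hδ'
  exact ⟨δ, hδ', hδ⟩

theorem range_le (E : Mod q π) {K : Subgroup T} (hZ : ∀ z ∈ ZH σ, jj π z ∈ K)
    (hZw : ∀ z ∈ ZH σ, π (wel σ) * jj π z * π (wel σ) ∈ K) (hi : (K.comap (jj π)).index ^ 5 < q ^ 4) :
    (jj π).range ≤ K := by
  have hq2 : 2 ≤ q := LieClassical.HermBasic.two_le E.card
  obtain ⟨δ, hδ, hδ0⟩ := exists_delta (σ := σ) E.card E.pow
  have htop : K.comap (jj π) = ⊤ := by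
    refine eq_top_of_scal E.card E.pow (index_lt hq2 hi) (fun z hz => hZ z hz) ?_
    intro l hl x hx
    have h1 : tor σ l ∈ K.comap π := by
      refine tor_mem_of (fun z hz => hZ z hz) (fun z hz => ?_) hδ hδ0 hl
      rw [mem_comap, map_mul, map_mul]
      exact hZw z hz
    have h2 := tor_conj (π := π) l x
    show π (emb σ (act l x)) ∈ K
    rw [← h2]
    exact K.mul_mem (K.mul_mem h1 hx) (K.inv_mem h1)
  rintro _ ⟨x, rfl⟩
  have : x ∈ K.comap (jj π) := by rw [htop]; exact mem_top _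
  exact this

theorem eq_top (hq : 3 ≤ q) {π : SUG σ →* PSU 3 F q} (E : Mod q π) {K : Subgroup (PSU 3 F q)}
    (hZ : ∀ z ∈ ZH σ, jj π z ∈ K) (hZw : ∀ z ∈ ZH σ, π (wel σ) * jj π z * π (wel σ) ∈ K)
    (hi : (K.comap (jj π)).index ^ 5 < q ^ 4)
    (hiw : (K.comap ((MulAut.conj (π (wel σ))).toMonoidHom.comp (jj π))).index ^ 5 < q ^ 4) : K = ⊤ := by
  have hw2 : π (wel σ) * π (wel σ) = 1 := by rw [← map_mul, wel_mul_wel, map_one]
  have hwi : (π (wel σ))⁻¹ = π (wel σ) := inv_eq_of_mul_eq_one_right hw2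
  have h1 := range_le E hZ hZw hi
  have h2 : (jj π).range ≤ K.comap (MulAut.conj (π (wel σ))).toMonoidHom := by
    refine range_le E (fun z hz => ?_) (fun z hz => ?_) ?_
    · show π (wel σ) * jj π z * (π (wel σ))⁻¹ ∈ K
      rw [hwi]
      exact hZw z hz
    · show π (wel σ) * (π (wel σ) * jj π z * π (wel σ)) * (π (wel σ))⁻¹ ∈ K
      have h3 : π (wel σ) * (π (wel σ) * jj π z * π (wel σ)) * (π (wel σ))⁻¹ = jj π z := by
        rw [hwi]
        calc _ = (π (wel σ) * π (wel σ)) * jj π z * (π (wel σ) * π (wel σ)) := by group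
          _ = _ := by rw [hw2, one_mul, mul_one]
      rw [h3]
      exact hZ z hz
    · rw [comap_comap]
      exact hiw
  rw [eq_top_iff, ← H452.FprPsu3A.gen_top E.card hq E.pow E.surj E.ker]
  refine sup_le ?_ ?_
  · rw [← range_jj]
    exact h1
  · rintro _ ⟨_, ⟨_, ⟨x, rfl⟩, rfl⟩, rfl⟩
    have h3 : jj π x ∈ K.comap (MulAut.conj (π (wel σ))).toMonoidHom := h2 ⟨x, rfl⟩
    have h4 : π (wel σ) * jj π x * (π (wel σ))⁻¹ ∈ K := h3
    show π (wel σ * emb σ x * (wel σ)⁻¹) ∈ K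
    rw [map_mul, map_mul, map_inv]
    exact h4

end fin

end Cfsg.Agent.H361.IFU
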