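import Cfsg.Agent.H705.ComPSU
import Cfsg.Agent.H452.FprPsu3A
import Cfsg.Agent.H667.TwoPSUGrp
import Cfsg.Agent.H990.TI.Psu

/-!
# Subgroups of small index in the unipotent group of `PSU_3(q)` (helper361, cell PSU.three of S5719)
-/

set_option autoImplicit false
set_option linter.unusedSectionVars false

namespace Cfsg.Agent.H361.IFU

open Cfsg Cfsg.Agent.LieRecognition.RankOneAbstract Matrix Subgroup
open Cfsg.Agent.UThreeGen.MatGroup Cfsg.Agent.H705.PSU
open Cfsg.Agent.HKS.EndU (tor tmat tor_val tor_mem act tor_emb ci wel_tor exists_tor tor_mem_center sne tor_conj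
  card_anti comm_of_a)
open Cfsg.Agent.H212.U3.Model (exists_a exists_trace_one card_HG)
open scoped commutatorElement

variable {F : Type} [Field F] {σ : F →+* F} [hσ : Fact (∀ x, σ (σ x) = x)]

/-- the centre of the unipotent group -/
def ZH (σ : F →+* F) [hσ : Fact (∀ x, σ (σ x) = x)] : Subgroup (HG σ) where
  carrier := {x | x.a = 0}
  one_mem' := rfl
  mul_mem' := by
    intro x y hx hy
    show (x * y).a = 0
    rw [mul_a, show x.a = 0 from hx, show y.a = 0 from hy, add_zero]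
  inv_mem' := by
    intro x hx
    show (x⁻¹).a = 0
    rw [inv_a, show x.a = 0 from hx, neg_zero]

theorem mem_ZH {x : HG σ} : x ∈ ZH σ ↔ x.a = 0 := Iff.rfl

theorem comm_a (x y : HG σ) : ⁅x, y⁆.a = 0 := by
  rw [commutatorElement_def]
  simp only [mul_a, inv_a]
  ring

theorem ext_ab {x y : HG σ} (h1 : x.a = y.a) (h2 : x.b = y.b) : x = y := HG.ext h1 h2

section fin

variable [Fintype F] {q : ℕ}

theorem card_ZH (hF : Fintype.card F = q ^ 2) (hs : ∀ x, σ x = x ^ q) : Nat.card (ZH σ) = q := by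
  rw [← card_anti hF hs]
  refine Nat.card_congr
    { toFun := fun x => ⟨x.1.b, by
        have h1 := x.1.h
        have h2 : x.1.a = 0 := x.2
        rw [h2, zero_mul] at h1
        exact h1⟩
      invFun := fun b => ⟨⟨0, b.1, by rw [zero_mul]; exact b.2⟩, rfl⟩
      left_inv := ?_
      right_inv := ?_ }
  · intro x
    apply Subtype.ext
    exact ext_ab (show (0 : F) = x.1.a from (show x.1.a = 0 from x.2).symm) rfl
  · intro b
    rfl

theorem exists_comm (hF : Fintype.card F = q ^ 2) (hs : ∀ x, σ x = x ^ q) {u : HG σ} (hu : u ∉ ZH σ) {z : HG σ}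
    (hz : z ∈ ZH σ) : ∃ v : HG σ, ⁅u, v⁆ = z := by
  have hu' : u.a ≠ 0 := hu
  have hz' : z.a = 0 := hz
  obtain ⟨s, hs1⟩ := exists_trace_one (σ := σ) hF hs
  have hzb : z.b + σ z.b = 0 := by
    have := z.h
    rw [hz', zero_mul] at this
    exact this
  obtain ⟨v, hv⟩ := exists_a (σ := σ) hF hs (σ (s * z.b / u.a))
  refine ⟨v, ext_ab ?_ ?_⟩
  · rw [comm_a, hz']
  · rw [commutatorElement_def, Cfsg.Agent.H990.TIPsu.comm_b, hv, sig, map_div₀, map_mul]
    have h2 : σ u.a ≠ 0 := (map_ne_zero σ).2 hu'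
    field_simp
    linear_combination (-σ s) * hzb + z.b * hs1

theorem Z_le (hF : Fintype.card F = q ^ 2) (hs : ∀ x, σ x = x ^ q) (hq : 2 ≤ q) {D : Subgroup (HG σ)}
    (hD : D.index ^ 5 < q ^ 4) : ZH σ ≤ D := by
  by_contra hcon
  have hfin : Finite (HG σ) := by
    apply Nat.finite_of_card_ne_zero
    rw [card_HG hF hs]
    positivity
  have h1 := H667.TwoPSUGrp.heis_bound (Z := ZH σ) (A := D) (fun z hz => by
    rw [mem_center_iff]
    intro y
    exact (comm_of_a hz y).symm) (fun u v => comm_a u v) (fun u hu z hz => exists_comm hF hs hu hz) hcon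
  rw [card_ZH hF hs, card_HG hF hs] at h1
  have h2 : Nat.card D * D.index = q ^ 3 := by rw [D.card_mul_index, card_HG hF hs]
  have h3 : Nat.card ↥(D ⊓ ZH σ) * 2 ≤ q := by
    have h4 : Nat.card ↥(D ⊓ ZH σ) ∣ q := by
      rw [← card_ZH (σ := σ) hF hs]
      exact Subgroup.card_dvd_of_le inf_le_right
    obtain ⟨k, hk⟩ := h4
    rcases Nat.lt_or_ge k 2 with hk2 | hk2
    · exfalso
      interval_cases k
      · omega
      · apply hcon
        have h5 : D ⊓ ZH σ = ZH σ := Subgroup.eq_of_le_of_card_ge inf_le_right (by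
          rw [card_ZH hF hs]
          omega)
        rw [← h5]
        exact inf_le_left
    · calc _ ≤ Nat.card ↥(D ⊓ ZH σ) * k := Nat.mul_le_mul_left _ hk2
        _ = q := hk.symm
  set c := Nat.card ↥(D ⊓ ZH σ)
  set i := D.index
  set d := Nat.card D
  have h4 : q ^ 4 * q ^ 3 ≤ (i * c) ^ 2 * q ^ 3 := by
    calc q ^ 4 * q ^ 3 = (d * i) ^ 2 * q := by rw [h2]; ring
      _ = (d ^ 2 * q) * i ^ 2 := by ring
      _ ≤ (q ^ 3 * c ^ 2) * i ^ 2 := Nat.mul_le_mul_right _ h1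
      _ = _ := by ring
  have h5 : (q ^ 2) ^ 2 ≤ (i * c) ^ 2 := by
    have := Nat.le_of_mul_le_mul_right h4 (by positivity)
    calc (q ^ 2) ^ 2 = q ^ 4 := by ring
      _ ≤ _ := this
  have h6 : q ^ 2 ≤ i * c := (Nat.pow_le_pow_iff_left two_ne_zero).1 h5
  have h7 : q ≤ i := by
    by_contra h8
    push Not at h8
    have : i * c ≤ q * c := Nat.mul_le_mul_right _ h8.le
    nlinarith
  have h8 : q ^ 4 ≤ i ^ 5 := by
    calc q ^ 4 ≤ i ^ 4 := Nat.pow_le_pow_left h7 4
      _ ≤ i ^ 5 := Nat.pow_le_pow_right (by omega) (by norm_num)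
  omega

theorem index_lt (hq : 2 ≤ q) {i : ℕ} (h : i ^ 5 < q ^ 4) : i < q := by
  by_contra h7
  push Not at h7
  have h8 : q ^ 4 ≤ i ^ 5 := by
    calc q ^ 4 ≤ i ^ 4 := Nat.pow_le_pow_left h7 4
      _ ≤ i ^ 5 := Nat.pow_le_pow_right (by omega) (by norm_num)
  omega

/-- a subgroup of index less than `q` which contains the centre and is invariant under the scalars is everything -/
theorem eq_top_of_scal (hF : Fintype.card F = q ^ 2) (hs : ∀ x, σ x = x ^ q) {D : Subgroup (HG σ)}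
    (hD : D.index < q) (hZ : ZH σ ≤ D) (hact : ∀ l : Fˣ, σ (l : F) = l → ∀ x ∈ D, act l x ∈ D) : D = ⊤ := by
  classical
  have hfin : Finite (HG σ) := by
    apply Nat.finite_of_card_ne_zero
    rw [card_HG hF hs]
    have := LieClassical.HermBasic.two_le hF
    positivity
  have hmem : ∀ x y : HG σ, x.a = y.a → y ∈ D → x ∈ D := by
    intro x y hxy hy
    have h1 : x * y⁻¹ ∈ D := hZ (by rw [mem_ZH, mul_a, inv_a, hxy, add_neg_cancel])
    have h2 := D.mul_mem h1 hy
    rwa [inv_mul_cancel_right] at h2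
  rw [eq_top_iff]
  intro v _
  choose s hs' using fun a : F => exists_a (σ := σ) hF hs a
  let f : {l : F // l ^ q = l} → HG σ ⧸ D := fun l => (s (l.1 * v.a) : HG σ ⧸ D)
  have hnot : ¬ Function.Injective f := by
    intro hinj
    have h1 := Nat.card_le_card_of_injective f hinj
    rw [LieClassical.HermBasic.card_fixed hF] at h1
    exact absurd hD (not_lt.2 h1)
  rw [Function.Injective] at hnot
  push Not at hnot
  obtain ⟨l, m, hlm, hne⟩ := hnot
  have h1 : (s (l.1 * v.a))⁻¹ * s (m.1 * v.a) ∈ D := QuotientGroup.eq.1 hlm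
  have hd : m.1 - l.1 ≠ 0 := fun h => hne (Subtype.ext (sub_eq_zero.1 h).symm)
  have hfix : σ (m.1 - l.1) = m.1 - l.1 := by
    rw [map_sub, hs, hs, l.2, m.2]
  let u : Fˣ := Units.mk0 (m.1 - l.1) hd
  have hu : σ ((u⁻¹ : Fˣ) : F) = (u⁻¹ : Fˣ) := by
    rw [Units.val_inv_eq_inv_val, map_inv₀]
    show (σ (m.1 - l.1))⁻¹ = _
    rw [hfix]
    rfl
  refine hmem v _ ?_ (hact u⁻¹ hu _ h1)
  show v.a = ((u⁻¹ : Fˣ) : F) ^ 2 / σ ((u⁻¹ : Fˣ) : F) * ((s (l.1 * v.a))⁻¹ * s (m.1 * v.a)).a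
  rw [hu, mul_a, inv_a, hs', hs', Units.val_inv_eq_inv_val]
  have h2 : (u : F) = m.1 - l.1 := rfl
  rw [h2]
  field_simp
  ring

end fin

end Cfsg.Agent.H361.IFU
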